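import Mathlib.AlgebraicGeometry.ZariskisMainTheorem

/-! An étale neighbourhood isolating a quasi-finite point, without residue extension. -/

set_option autoImplicit false
set_option linter.style.haveILetI false
set_option maxHeartbeats 1000000
universe u

open CategoryTheory CategoryTheory.Limits AlgebraicGeometry
open scoped TensorProduct

noncomputable section

namespace Groth.Agent.EtNhd13

theorem exists_alg {A B : Type u} [CommRing A] [CommRing B] [Algebra A B] [Algebra.FiniteType A B]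
    (p : Ideal A) [p.IsPrime] (q : Ideal B) [q.IsPrime] [q.LiesOver p] [Algebra.QuasiFiniteAt A q] :
    ∃ (R : Type u) (_ : CommRing R) (_ : Algebra A R) (_ : Algebra.Etale A R) (e : R ⊗[A] B)
      (ω : R ⊗[A] B →ₐ[A] q.ResidueField), Module.Finite R (Localization.Away e) ∧
      (∀ b : B, ω (1 ⊗ₜ b) = algebraMap B q.ResidueField b) ∧ ω e ≠ 0 ∧
      ∀ P'' : Ideal (R ⊗[A] B), P''.IsPrime →
        P''.comap (Algebra.TensorProduct.includeLeftRingHom : R →+* R ⊗[A] B) =
          (RingHom.ker ω.toRingHom).comap Algebra.TensorProduct.includeLeftRingHom →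
        e ∉ P'' → P'' = RingHom.ker ω.toRingHom := by
  obtain ⟨R, _, _, _, P, _, _, e, _, P', _, _, hP', heP', hbij, hfin, huniq⟩ :=
    Algebra.exists_etale_isIdempotentElem_forall_liesOver_eq p q
  let ε := AlgEquiv.ofBijective (Ideal.ResidueField.mapₐ p P (Algebra.ofId _ _) (P.over_def p)) hbij
  let pq : p.ResidueField →ₐ[A] q.ResidueField :=
    Ideal.ResidueField.mapₐ p q (Algebra.ofId _ _) (q.over_def p)
  let ρ : R →ₐ[A] q.ResidueField := pq.comp (ε.symm.toAlgHom.comp (IsScalarTower.toAlgHom A R P.ResidueField))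
  let ω : R ⊗[A] B →ₐ[A] q.ResidueField :=
    Algebra.TensorProduct.lift ρ (IsScalarTower.toAlgHom A B q.ResidueField) fun _ _ => .all _ _
  let θ : q.ResidueField →+* P'.ResidueField :=
    Ideal.ResidueField.map q P' Algebra.TensorProduct.includeRight.toRingHom hP'.symm
  have hθ : ∀ b : B, θ (algebraMap B _ b) = algebraMap (R ⊗[A] B) _ (1 ⊗ₜ b) := fun b => by
    simp [θ, Ideal.ResidueField.map_algebraMap]
  let θ' : P.ResidueField →+* P'.ResidueField :=
    Ideal.ResidueField.map P P' (Algebra.TensorProduct.includeLeftRingHom) (P'.over_def P)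
  have hcomp : ∀ x : p.ResidueField, θ (pq x) = θ' (ε x) := by
    refine RingHom.congr_fun (f := θ.comp pq.toRingHom) (g := θ'.comp ε.toAlgHom.toRingHom) ?_
    apply Ideal.ResidueField.ringHom_ext
    ext a
    show θ (pq (algebraMap A _ a)) = θ' (ε (algebraMap A _ a))
    rw [AlgHom.commutes, AlgEquiv.commutes, IsScalarTower.algebraMap_apply A B q.ResidueField, hθ,
      IsScalarTower.algebraMap_apply A R P.ResidueField]
    simp only [θ', Ideal.ResidueField.map_algebraMap]
    congr 1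
    show (1 : R) ⊗ₜ[A] algebraMap A B a = algebraMap A R a ⊗ₜ[A] (1 : B)
    rw [Algebra.algebraMap_eq_smul_one, Algebra.algebraMap_eq_smul_one, TensorProduct.smul_tmul]
  have hω : ∀ x, θ (ω x) = algebraMap (R ⊗[A] B) P'.ResidueField x := by
    intro x
    induction x with
    | zero => simp
    | add x y hx hy => simp [hx, hy]
    | tmul r b =>
      have hr : θ (ρ r) = algebraMap (R ⊗[A] B) P'.ResidueField (r ⊗ₜ 1) := by
        show θ (pq (ε.symm (algebraMap R P.ResidueField r))) = _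
        rw [hcomp, AlgEquiv.apply_symm_apply]
        simp [θ', Ideal.ResidueField.map_algebraMap]
      show θ (ρ r * algebraMap B q.ResidueField b) = _
      rw [map_mul, hr, hθ, ← map_mul, Algebra.TensorProduct.tmul_mul_tmul, mul_one, one_mul]
  have hker : RingHom.ker ω.toRingHom = P' := by
    ext x
    rw [RingHom.mem_ker, ← Ideal.algebraMap_residueField_eq_zero (I := P'), ← hω]
    exact ⟨fun h => by rw [show ω x = 0 from h, map_zero], fun h => (map_eq_zero θ).1 h⟩
  refine ⟨R, ‹_›, ‹_›, ‹_›, e, ω, ?_⟩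
  refine ⟨?_, fun b => ?_, fun h => ?_, fun P'' hP'' hcom heP'' => ?_⟩
  · exact hfin
  · simp [ω]
  · exact heP' (hker ▸ (RingHom.mem_ker (f := ω.toRingHom)).2 h)
  · rw [hker] at hcom ⊢
    exact huniq P'' hP'' ⟨(P'.over_def P).trans hcom.symm⟩ heP''

set_option backward.isDefEq.respectTransparency false in
set_option backward.isDefEq.respectTransparency.types false in
theorem exists_nhd {Z S : Scheme.{u}} (h : Z ⟶ S) [LocallyOfFiniteType h] (z : Z) (hz : h.QuasiFiniteAt z) :
    ∃ (T : Scheme.{u}) (g : T ⟶ S) (V : (pullback h g).Opens)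
      (w : Spec (Z.residueField z) ⟶ pullback h g), Etale g ∧
      IsFinite (V.ι ≫ pullback.snd h g) ∧ w ≫ pullback.fst h g = Z.fromSpecResidueField z ∧
      w (IsLocalRing.closedPoint _) ∈ V ∧
      ∀ v ∈ V, pullback.snd h g v = pullback.snd h g (w (IsLocalRing.closedPoint _)) →
        v = w (IsLocalRing.closedPoint _) := by
  obtain ⟨_, ⟨U, hU, rfl⟩, hxU, -⟩ := S.isBasis_affineOpens.exists_subset_of_mem_open
    (Set.mem_univ (h z)) isOpen_univ
  obtain ⟨_, ⟨V, hV, rfl⟩, hxV, hUV : V ≤ h ⁻¹ᵁ U⟩ :=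
    Z.isBasis_affineOpens.exists_subset_of_mem_open hxU (h ⁻¹ᵁ U).2
  have : (h.appLE U V hUV).hom.FiniteType := h.finiteType_appLE hU hV hUV
  algebraize [(h.appLE U V hUV).hom]
  have : (hV.primeIdealOf ⟨z, hxV⟩).asIdeal.LiesOver (hU.primeIdealOf ⟨h z, hxU⟩).asIdeal := by
    suffices hU.primeIdealOf ⟨h z, hxU⟩ = Spec.map (h.appLE U V hUV) (hV.primeIdealOf ⟨z, hxV⟩) from
      ⟨congr(($this).1)⟩
    apply hU.isoSpec.inv.homeomorph.injective
    apply Subtype.ext
    simp only [IsAffineOpen.primeIdealOf, Scheme.Hom.homeomorph_apply,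
      ← Scheme.Hom.comp_apply, ← Scheme.Opens.ι_apply, IsAffineOpen.isoSpec_hom]
    simp
  have : Algebra.QuasiFiniteAt Γ(S, U) (hV.primeIdealOf ⟨z, hxV⟩).asIdeal :=
    hz.quasiFiniteAt hV hU hUV hxV
  obtain ⟨R, _, _, _, e, ω, hfin, hωB, hωe, huniq⟩ :=
    exists_alg (hU.primeIdealOf ⟨h z, hxU⟩).asIdeal (hV.primeIdealOf ⟨z, hxV⟩).asIdeal
  have : (algebraMap R (Localization.Away e)).Finite := RingHom.finite_algebraMap.mpr ‹_›
  let φ : Γ(S, U) ⟶ .of R := CommRingCat.ofHom <| algebraMap Γ(S, U) R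
  have hφ : φ.hom.Etale := RingHom.etale_algebraMap.mpr ‹_›
  have : Etale (Spec.map φ) := HasRingHomProperty.Spec_iff.mpr hφ
  let e₁ : Spec (.of (R ⊗[Γ(S, U)] Γ(Z, V))) ≅ pullback (Spec.map (h.appLE U V hUV)) (Spec.map φ) :=
    (pullbackSpecIso _ _ _).symm ≪≫ pullbackSymmetry _ _
  have he₁ : e₁.hom ≫ pullback.fst _ _ =
      Spec.map (CommRingCat.ofHom Algebra.TensorProduct.includeRight.toRingHom) := by
    dsimp [e₁, RingHom.algebraMap_toAlgebra]
    rw [Category.assoc, pullbackSymmetry_hom_comp_fst]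
    exact pullbackSpecIso_inv_snd ..
  have he₂ : e₁.hom ≫ pullback.snd _ _ =
      Spec.map (CommRingCat.ofHom Algebra.TensorProduct.includeLeftRingHom) := by
    dsimp [e₁, RingHom.algebraMap_toAlgebra]
    rw [Category.assoc, pullbackSymmetry_hom_comp_snd]
    exact pullbackSpecIso_inv_fst ..
  let g : Spec (.of (R ⊗[Γ(S, U)] Γ(Z, V))) ⟶ pullback h (Spec.map φ ≫ hU.fromSpec) :=
    e₁.hom ≫ pullback.map _ _ _ _ hV.fromSpec (𝟙 _) hU.fromSpec
      (IsAffineOpen.SpecMap_appLE_fromSpec ..) (by simp)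
  have hg₁ : g ≫ pullback.fst _ _ =
      Spec.map (CommRingCat.ofHom Algebra.TensorProduct.includeRight.toRingHom) ≫ hV.fromSpec := by
    rw [← he₁]
    simp [g]
  have hg₂ : g ≫ pullback.snd _ _ =
      Spec.map (CommRingCat.ofHom Algebra.TensorProduct.includeLeftRingHom) := by
    rw [← he₂]
    simp [g]
  let W₁ := g ''ᵁ PrimeSpectrum.basicOpen e
  have : IsFinite (W₁.ι ≫ pullback.snd h _) := by
    let ι : Spec (.of (Localization.Away e)) ⟶ pullback h (Spec.map φ ≫ hU.fromSpec) :=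
      Spec.map (CommRingCat.ofHom <| algebraMap _ _) ≫ g
    have : ι.opensRange = W₁ := by
      simp only [Scheme.Hom.opensRange_comp, ι, W₁]
      congr 1
      exact TopologicalSpace.Opens.ext <| PrimeSpectrum.localization_away_comap_range _ _
    rw [← this, ← MorphismProperty.cancel_left_of_respectsIso @IsFinite
      (Scheme.Hom.isoOpensRange _).hom]
    have H : (pullbackSpecIso _ R _).inv ≫ pullback.fst _ (Spec.map (h.appLE U V hUV)) = _ :=
      pullbackSpecIso_inv_fst ..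
    simpa [Scheme.Hom.isoOpensRange, ι, g, e₁, RingHom.algebraMap_toAlgebra, φ, H,
      ← Spec.map_comp, IsFinite.SpecMap_iff]
  -- the point
  let z₀ : Spec Γ(Z, V) := hV.primeIdealOf ⟨z, hxV⟩
  have hz₀ : hV.fromSpec z₀ = z := hV.fromSpec_primeIdealOf ⟨z, hxV⟩
  obtain ⟨a, ha⟩ : ∃ a : Spec (Z.residueField z) ⟶ Spec (CommRingCat.of z₀.asIdeal.ResidueField),
      a ≫ Spec.map (CommRingCat.ofHom (algebraMap Γ(Z, V) z₀.asIdeal.ResidueField)) ≫ hV.fromSpec =
        Z.fromSpecResidueField z := by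
    have key : ∃ a : Spec (Z.residueField (hV.fromSpec z₀)) ⟶ Spec (CommRingCat.of z₀.asIdeal.ResidueField),
        a ≫ Spec.map (CommRingCat.ofHom (algebraMap Γ(Z, V) z₀.asIdeal.ResidueField)) ≫ hV.fromSpec =
          Z.fromSpecResidueField (hV.fromSpec z₀) := by
      refine ⟨inv (Spec.map (hV.fromSpec.residueFieldMap z₀)) ≫
        Spec.map (Scheme.Spec.residueFieldIso _ z₀).inv, ?_⟩
      rw [Category.assoc, IsIso.inv_comp_eq, Scheme.Hom.SpecMap_residueFieldMap_fromSpecResidueField,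
        Scheme.Spec.map_residueFieldIso_inv_eq_fromSpecResidueField_assoc]
    rw [hz₀] at key
    exact key
  let w₀ : Spec (Z.residueField z) ⟶ Spec (.of (R ⊗[Γ(S, U)] Γ(Z, V))) :=
    a ≫ Spec.map (CommRingCat.ofHom ω.toRingHom)
  have hw₀ : w₀ (IsLocalRing.closedPoint _) = ⟨RingHom.ker ω.toRingHom, RingHom.ker_isPrime _⟩ := by
    apply PrimeSpectrum.ext
    show ((Spec.map (CommRingCat.ofHom ω.toRingHom)) (a _)).asIdeal = _
    rw [Subsingleton.elim (α := PrimeSpectrum z₀.asIdeal.ResidueField) (a _) ⟨⊥, Ideal.isPrime_bot⟩]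
    rfl
  refine ⟨Spec (.of R), Spec.map φ ≫ hU.fromSpec, W₁, w₀ ≫ g, inferInstance, ‹_›, ?_, ?_, ?_⟩
  · rw [Category.assoc, hg₁, show w₀ = a ≫ _ from rfl, Category.assoc, ← ha]
    congr 1
    rw [← Category.assoc, ← Spec.map_comp]
    congr 2
    ext b
    exact hωB b
  · exact ⟨_, fun hmem => hωe (by
      have := (congrArg PrimeSpectrum.asIdeal hw₀) ▸ hmem
      exact (RingHom.mem_ker (f := ω.toRingHom)).1 this), rfl⟩
  · rintro _ ⟨p, hp, rfl⟩ heq
    refine congrArg g (Eq.trans (PrimeSpectrum.ext ?_) hw₀.symm)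
    have e1 : ∀ q, pullback.snd h (Spec.map φ ≫ hU.fromSpec) (g q) =
        Spec.map (CommRingCat.ofHom Algebra.TensorProduct.includeLeftRingHom) q := fun q => by
      exact (Scheme.Hom.comp_apply g _ q).symm.trans (congrArg (fun m : Spec _ ⟶ Spec (CommRingCat.of R) => m q) hg₂)
    have e2 := (e1 p).symm.trans (heq.trans ((congrArg _ (Scheme.Hom.comp_apply _ g _)).trans
      ((congrArg _ (congrArg g hw₀)).trans (e1 _))))
    exact huniq p.asIdeal p.2 (congrArg PrimeSpectrum.asIdeal e2) hp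

end Groth.Agent.EtNhd13
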